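import Groth.Agent.Lib.ProjPic26.Over
import Groth.Agent.Lib.CycP1.Fibre
import Mathlib.AlgebraicGeometry.Geometrically.Integral
import Mathlib.AlgebraicGeometry.Morphisms.UniversallyOpen
import Mathlib.AlgebraicGeometry.Morphisms.QuasiFinite

/-!
# Clopen subsets of `P¹_S` and of finite flat schemes over it
-/

universe u

open AlgebraicGeometry CategoryTheory TopologicalSpace

namespace GrothLib.P1Fin17

variable {S X : Scheme.{u}}

/-- A clopen subset of `P¹_S` containing a section is everything. -/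
theorem eq_univ_of_isClopen {Z : Set (CohB1.ProjSpaceOver 1 S)} (hZ : IsClopen Z) (i : Fin (1 + 1))
    (h : Set.range (P1.sect S i) ⊆ Z) : Z = Set.univ := by
  refine Set.eq_univ_of_forall fun p => ?_
  let π := CohB1.ProjSpaceOver.toBase.{u} 1 S
  let s := π p
  haveI : IsIntegral (π.fiber s) := inferInstance
  have hc : IsClopen ((π.fiberι s) ⁻¹' Z) := hZ.preimage (π.fiberι s).continuous
  have hz : π (P1.sect S i s) = s :=
    congrArg (fun f : S ⟶ S => f s) (GrothLib.CycP1.sect_toBase (X := S) i)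
  obtain ⟨z, hz'⟩ := (π.range_fiberι s).ge (show P1.sect S i s ∈ π ⁻¹' {s} from hz)
  obtain ⟨q, hq⟩ := (π.range_fiberι s).ge (show p ∈ π ⁻¹' {s} from rfl)
  have hu : (π.fiberι s) ⁻¹' Z = Set.univ := hc.eq_univ ⟨z, show π.fiberι s z ∈ Z from hz'.symm ▸ h ⟨s, rfl⟩⟩
  exact hq ▸ (hu.ge (Set.mem_univ q) : π.fiberι s q ∈ Z)

/-- A clopen subset of `P¹_S` is empty or everything, for preconnected `S`. -/
theorem eq_empty_or_univ [PreconnectedSpace S] {Z : Set (CohB1.ProjSpaceOver 1 S)} (hZ : IsClopen Z) :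
    Z = ∅ ∨ Z = Set.univ := by
  rcases isClopen_iff.1 (hZ.preimage (P1.sect S 0).continuous) with h | h
  · left
    have := eq_univ_of_isClopen hZ.compl 0 (fun _ ⟨s, hs⟩ hp => Set.eq_empty_iff_forall_notMem.1 h s (by rw [Set.mem_preimage, hs]; exact hp))
    rwa [Set.compl_univ_iff] at this
  · exact .inr (eq_univ_of_isClopen hZ 0 fun _ ⟨s, hs⟩ => hs ▸ (h.ge (Set.mem_univ s) : P1.sect S 0 s ∈ Z))

/-- The image of a clopen set under a finite flat morphism is clopen. -/
theorem isClopen_image {Y : Scheme.{u}} (g : X ⟶ Y) [IsFinite g] [Flat g] [LocallyOfFinitePresentation g]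
    {W : Set X} (hW : IsClopen W) : IsClopen (g '' W) :=
  ⟨g.isClosedMap _ hW.1, g.isOpenMap _ hW.2⟩

end GrothLib.P1Fin17
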